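import Groth.Agent.FinHomLib.Main
import Groth.Agent.S1487
import Mathlib.AlgebraicGeometry.Morphisms.Etale
import Mathlib.AlgebraicGeometry.Limits

/-!
Clopen subsets as morphisms to two copies of the base, and the étale scheme of clopen subsets of a
finite locally free scheme.
-/

set_option autoImplicit false

noncomputable section

universe u

open CategoryTheory CategoryTheory.Limits MonoidalCategory CartesianMonoidalCategory AlgebraicGeometry Opposite

namespace Groth.Agent.IdemSch

variable {S : Scheme.{u}}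

/-- Two copies of the base. -/
def two (S : Scheme.{u}) : Over S := Over.mk (coprod.desc (𝟙 S) (𝟙 S))

/-- The first copy. -/
def one (S : Scheme.{u}) : Set ↥(two S).left :=
  Set.range ⇑(coprod.inl : S ⟶ S ⨿ S)

theorem compl_one (S : Scheme.{u}) : (one S)ᶜ = Set.range ⇑(coprod.inr : S ⟶ S ⨿ S) :=
  (isCompl_range_inl_inr S S).compl_eq

theorem isClopen_one (S : Scheme.{u}) : IsClopen (one S) := by
  refine ⟨?_, (Scheme.Hom.isOpenEmbedding (coprod.inl : S ⟶ S ⨿ S)).isOpen_range⟩
  rw [← isOpen_compl_iff]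
  show IsOpen (one S)ᶜ
  rw [compl_one]
  exact (Scheme.Hom.isOpenEmbedding (coprod.inr : S ⟶ S ⨿ S)).isOpen_range

instance : IsAffineHom (two S).hom := inferInstanceAs (IsAffineHom (coprod.desc (𝟙 S) (𝟙 S)))

instance : LocallyOfFinitePresentation (two S).hom := by
  show LocallyOfFinitePresentation (coprod.desc (𝟙 S) (𝟙 S))
  refine IsZariskiLocalAtSource.of_openCover (P := @LocallyOfFinitePresentation)
    (coprodOpenCover.{_, u} S S) fun i => ?_
  rcases i with i | i
  all_goals simp [coprodOpenCover, coprod.inl_desc, coprod.inr_desc] <;> infer_instance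

theorem hom_ext {P : Over S} {φ ψ : P ⟶ two S} (h : φ.left ⁻¹' one S = ψ.left ⁻¹' one S) : φ = ψ := by
  classical
  apply Over.OverMorphism.ext
  let V : Bool → P.left.Opens := fun b => cond b
    ⟨φ.left ⁻¹' one S, (isClopen_one S).2.preimage φ.left.continuous⟩
    ⟨(φ.left ⁻¹' one S)ᶜ, ((isClopen_one S).1.preimage φ.left.continuous).isOpen_compl⟩
  refine (P.left.openCoverOfIsOpenCover V (TopologicalSpace.Opens.ext (Set.eq_univ_of_forall fun x => ?_))).hom_ext
    _ _ fun b => ?_
  · simp only [TopologicalSpace.Opens.coe_iSup, Set.mem_iUnion]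
    by_cases hx : x ∈ φ.left ⁻¹' one S
    · exact ⟨true, hx⟩
    · exact ⟨false, hx⟩
  · show (V b).ι ≫ φ.left = (V b).ι ≫ ψ.left
    have key : ∀ (c : S ⟶ S ⨿ S), IsOpenImmersion c → c ≫ coprod.desc (𝟙 S) (𝟙 S) = 𝟙 S →
        ∀ (χ : P ⟶ two S), Set.range ⇑((V b).ι ≫ χ.left) ⊆ Set.range ⇑c →
        (V b).ι ≫ χ.left = ((V b).ι ≫ P.hom) ≫ c := by
      intro c hc hc' χ hr
      obtain ⟨l, hl⟩ : ∃ l, l ≫ c = (V b).ι ≫ χ.left :=
        ⟨IsOpenImmersion.lift c _ hr, IsOpenImmersion.lift_fac c _ hr⟩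
      have : l = (V b).ι ≫ P.hom := by
        have h1 := congrArg (· ≫ coprod.desc (𝟙 S) (𝟙 S)) hl
        simp only [Category.assoc, hc', Category.comp_id] at h1
        rw [h1]; exact congrArg (_ ≫ ·) (Over.w χ)
      rw [← hl, this]
    have hV : ∀ (χ : P ⟶ two S), χ.left ⁻¹' one S = φ.left ⁻¹' one S → ∀ x : ↥(V b : Scheme.{u}),
        ((V b).ι ≫ χ.left) x ∈ cond b (one S) (one S)ᶜ := by
      intro χ hχ x
      have hx : (V b).ι x ∈ V b := by
        rw [← SetLike.mem_coe, ← Scheme.Opens.range_ι]; exact ⟨x, rfl⟩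
      rw [Scheme.Hom.comp_apply]
      cases b
      · show (V false).ι x ∈ (χ.left ⁻¹' one S)ᶜ
        rw [hχ]; exact hx
      · show (V true).ι x ∈ χ.left ⁻¹' one S
        rw [hχ]; exact hx
    cases b
    · rw [key coprod.inr inferInstance (coprod.inr_desc _ _) φ ?_,
        key coprod.inr inferInstance (coprod.inr_desc _ _) ψ ?_]
      all_goals rintro _ ⟨x, rfl⟩
      all_goals refine (Set.ext_iff.1 (compl_one S) _).1 ?_
      all_goals first
        | exact hV φ rfl x
        | exact hV ψ h.symm x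
    · rw [key coprod.inl inferInstance (coprod.inl_desc _ _) φ ?_,
        key coprod.inl inferInstance (coprod.inl_desc _ _) ψ ?_]
      all_goals rintro _ ⟨x, rfl⟩
      all_goals first
        | exact hV φ rfl x
        | exact hV ψ h.symm x

theorem hom_exists {P : Over S} {W : Set ↥P.left} (hW : IsClopen W) :
    ∃ φ : P ⟶ two S, φ.left ⁻¹' one S = W := by
  classical
  let W₁ : P.left.Opens := ⟨W, hW.2⟩
  let W₂ : P.left.Opens := ⟨Wᶜ, hW.1.isOpen_compl⟩
  let V : Bool → P.left.Opens := fun b => cond b W₁ W₂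
  let 𝒰 := P.left.openCoverOfIsOpenCover V (TopologicalSpace.Opens.ext (Set.eq_univ_of_forall fun x => by
    simp only [TopologicalSpace.Opens.coe_iSup, Set.mem_iUnion]
    by_cases hx : x ∈ W
    · exact ⟨true, hx⟩
    · exact ⟨false, hx⟩))
  let f : ∀ b : Bool, (V b : Scheme.{u}) ⟶ (two S).left := fun b =>
    (V b).ι ≫ P.hom ≫ cond b (coprod.inl : S ⟶ S ⨿ S) coprod.inr
  have hcompat : ∀ a b : Bool, pullback.fst (V a).ι (V b).ι ≫ f a = pullback.snd (V a).ι (V b).ι ≫ f b := by
    intro a b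
    rcases eq_or_ne a b with rfl | hab
    · simp only [f, ← Category.assoc, pullback.condition]
    · haveI : IsEmpty ↥(pullback (V a).ι (V b).ι) := by
        refine ⟨fun z => ?_⟩
        have h1 : (V a).ι (pullback.fst (V a).ι (V b).ι z) = (V b).ι (pullback.snd (V a).ι (V b).ι z) := by
          rw [← Scheme.Hom.comp_apply, pullback.condition, Scheme.Hom.comp_apply]
        have h2 : ∀ (c : Bool) (t : ↥(V c : Scheme.{u})), (V c).ι t ∈ (V c : Set ↥P.left) := fun c t => by
          rw [← Scheme.Opens.range_ι]; exact ⟨t, rfl⟩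
        have h3 := h2 a (pullback.fst (V a).ι (V b).ι z)
        have h4 := h2 b (pullback.snd (V a).ι (V b).ι z)
        rw [h1] at h3
        cases a <;> cases b
        · exact hab rfl
        · exact h3 h4
        · exact h4 h3
        · exact hab rfl
      exact (isInitialOfIsEmpty).hom_ext _ _
  let g := Scheme.Cover.glueMorphisms 𝒰 f hcompat
  have hg : ∀ b, (V b).ι ≫ g = f b := fun b => Scheme.Cover.ι_glueMorphisms 𝒰 f hcompat b
  refine ⟨Over.homMk g (Scheme.Cover.hom_ext 𝒰 _ _ fun b => ?_), ?_⟩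
  · show (V b).ι ≫ g ≫ coprod.desc (𝟙 S) (𝟙 S) = (V b).ι ≫ P.hom
    rw [← Category.assoc, hg]
    show ((V b).ι ≫ P.hom ≫ cond b coprod.inl coprod.inr) ≫ coprod.desc (𝟙 S) (𝟙 S) = (V b).ι ≫ P.hom
    rw [Category.assoc, Category.assoc]
    refine congrArg ((V b).ι ≫ ·) ((congrArg (P.hom ≫ ·) ?_).trans (Category.comp_id _))
    cases b
    · exact coprod.inr_desc _ _
    · exact coprod.inl_desc _ _
  · ext x
    show g x ∈ one S ↔ x ∈ W
    by_cases hx : x ∈ W
    · refine iff_of_true ?_ hx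
      have := congrArg (fun t : (V true : Scheme.{u}) ⟶ _ => t ⟨x, hx⟩) (hg true)
      simp only [Scheme.Hom.comp_apply] at this
      exact ⟨P.hom x, this.symm⟩
    · refine iff_of_false ?_ hx
      have := congrArg (fun t : (V false : Scheme.{u}) ⟶ _ => t ⟨x, hx⟩) (hg false)
      simp only [Scheme.Hom.comp_apply] at this
      show g x ∈ (one S) → False
      exact fun h1 => Set.disjoint_left.1 (isCompl_range_inl_inr S S).disjoint h1 ⟨P.hom x, this.symm⟩

theorem eq_of_preimage {A B : Type*} {f : A → B} (hf : Function.Surjective f) {U V : Set B}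
    (h : f ⁻¹' U = f ⁻¹' V) : U = V :=
  Set.preimage_injective.2 hf h

/-- The clopen subsets of `X ⊗ T` are classified by an affine étale scheme. -/
theorem exists_clopenScheme (X : Over S) [IsFinite X.hom] [Flat X.hom] [LocallyOfFinitePresentation X.hom] :
    ∃ (M : Over S) (ev : X ⊗ M ⟶ two S), Etale M.hom ∧ IsSeparated M.hom ∧
      ∀ (T : Over S) (W : Set ↥(X ⊗ T).left), IsClopen W →
        ∃! v : T ⟶ M, ((X ◁ v) ≫ ev).left ⁻¹' one S = W := by
  obtain ⟨M, ev, hAff, -, hfp, hrep⟩ := FinHom.exists_homScheme X (two S)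
  haveI := hAff
  haveI := hfp inferInstance
  have huniv : ∀ (T : Over S) (W : Set ↥(X ⊗ T).left), IsClopen W →
      ∃! v : T ⟶ M, ((X ◁ v) ≫ ev).left ⁻¹' one S = W := by
    intro T W hW
    obtain ⟨φ, hφ⟩ := hom_exists hW
    obtain ⟨v, hv, hv'⟩ := hrep T φ
    refine ⟨v, by rw [← hφ, ← hv], fun w hw => hv' w (hom_ext (hw.trans hφ.symm))⟩
  refine ⟨M, ev, ?_, inferInstance, huniv⟩
  have hfe : MoreMor.IsFormallyEtaleHom M.hom := by
    intro A _ I hI a b hab
    let q := Spec.map (CommRingCat.ofHom (Ideal.Quotient.mk I))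
    let T : Over S := Over.mk b
    let T₀ : Over S := Over.mk (q ≫ b)
    let k : T₀ ⟶ T := Over.homMk q rfl
    let a' : T₀ ⟶ M := Over.homMk a hab.symm
    haveI : IsClosedImmersion (X ◁ k).left := by
      refine MorphismProperty.of_isPullback (P := @IsClosedImmersion) (FinHom.isPullback_whiskerLeft X k).flip ?_
      exact IsClosedImmersion.spec_of_surjective _ Ideal.Quotient.mk_surjective
    haveI : Surjective (X ◁ k).left := by
      refine MorphismProperty.of_isPullback (P := @Surjective) (FinHom.isPullback_whiskerLeft X k).flip ?_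
      exact ⟨(PrimeSpectrum.comap_quotientMk_bijective_of_le_nilradical (I := I)
        (fun x hx => ⟨2, by simpa [hI] using Ideal.pow_mem_pow hx 2⟩)).2⟩
    have hinj := (Scheme.Hom.isClosedEmbedding (X ◁ k).left).injective
    have hemb := (Scheme.Hom.isClosedEmbedding (X ◁ k).left)
    have hsur := (X ◁ k).left.surjective
    let W₀ : Set ↥(X ⊗ T₀).left := ((X ◁ a') ≫ ev).left ⁻¹' one S
    have hW₀ : IsClopen W₀ := (isClopen_one S).preimage (Scheme.Hom.continuous _)
    let W : Set ↥(X ⊗ T).left := (X ◁ k).left '' W₀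
    have hWc : Wᶜ = (X ◁ k).left '' W₀ᶜ := (Set.image_compl_eq ⟨hinj, hsur⟩).symm
    have hW : IsClopen W :=
      ⟨hemb.isClosedMap _ hW₀.1, isClosed_compl_iff.1 (hWc ▸ hemb.isClosedMap _ hW₀.compl.1)⟩
    have key : ∀ v : T ⟶ M, k ≫ v = a' ↔ ((X ◁ v) ≫ ev).left ⁻¹' one S = W := by
      intro v
      have h0 : ((X ◁ (k ≫ v)) ≫ ev).left ⁻¹' one S = (X ◁ k).left ⁻¹' (((X ◁ v) ≫ ev).left ⁻¹' one S) := by
        rw [whiskerLeft_comp, Category.assoc]
        rfl
      constructor
      · intro h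
        refine eq_of_preimage hsur ?_
        rw [← h0, h]
        exact (hinj.preimage_image W₀).symm
      · intro h
        refine (huniv T₀ W₀ hW₀).unique ?_ rfl
        rw [h0, h]
        exact hinj.preimage_image W₀
    obtain ⟨v, hv, hv'⟩ := huniv T W hW
    refine ⟨v.left, ⟨congrArg CommaMorphism.left ((key v).2 hv), Over.w v⟩, ?_⟩
    rintro l ⟨hl₁, hl₂⟩
    exact congrArg CommaMorphism.left (hv' (Over.homMk l hl₂) ((key _).1 (Over.OverMorphism.ext hl₁)))
  have h := (Groth.Agent.S1487.result M.hom).1 hfe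
  refine ⟨fun {U} hU {V} hV e => ?_⟩
  have h1 := h V U hV hU e
  have h2 := LocallyOfFinitePresentation.finitePresentation_appLE M.hom hU hV e
  letI := (M.hom.appLE U V e).hom.toAlgebra
  haveI : Algebra.FormallyEtale _ _ := h1
  haveI : Algebra.FinitePresentation _ _ := h2
  exact ({} : Algebra.Etale Γ(S, U) Γ(M.left, V))

end Groth.Agent.IdemSch
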